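import Groth.Agent.FBase.K106.Dim
import Groth.Agent.Divis.CartierStalk
import Groth.Agent.Fdesc.GeomAlgClosed
import Groth.Agent.Sga3C.GeomRedPerf
import Groth.Agent.CurvesA.CurveDvr
import Mathlib.AlgebraicGeometry.AlgClosed.Basic
import Mathlib.AlgebraicGeometry.Geometrically.Integral
import Mathlib.RingTheory.DiscreteValuationRing.TFAE

/-!
# Geometry of a product of two curves

`prodSurf` is task B (`ProdSurf`) of the plan `K329.Plan510` for S16510: the product `S` of two smooth proper curves over an
algebraically closed field is integral of dimension `2`; the fibre over a closed point `c` has a generic point `θ`, whose ideal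
in `O_x` (`x` in the fibre) is generated by a uniformizer at `c`; the maximal ideal at a closed point is generated by the two
uniformizers.
-/

set_option autoImplicit false
universe u

open CategoryTheory CategoryTheory.Limits AlgebraicGeometry TopologicalSpace IsLocalRing

namespace K40.ProdSurf

open Groth.Agent Groth.Agent.Divis.CartierBasic Groth.Agent.Divis.CartierStalk

local notation "Sp" k:max => Spec (CommRingCat.of k)

section Hor

variable {k : Type u} [Field k] {C P : Scheme.{u}} (a : C ⟶ Sp k) (p : P ⟶ Sp k) (τ : Sp k ⟶ C) (hτ : τ ≫ a = 𝟙 _)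

/-- The section `y ↦ (τ, y)` of the second projection. -/
noncomputable def hz : P ⟶ pullback a p := pullback.lift (p ≫ τ) (𝟙 P) (by rw [Category.assoc, hτ]; simp)

theorem hz_fst : hz a p τ hτ ≫ pullback.fst a p = p ≫ τ := pullback.lift_fst _ _ _

theorem hz_snd : hz a p τ hτ ≫ pullback.snd a p = 𝟙 P := pullback.lift_snd _ _ _

theorem isPullback_hz : IsPullback (hz a p τ hτ) p (pullback.fst a p) τ := by
  refine IsPullback.of_right (h₁₂ := pullback.snd a p) (v₁₃ := p) (h₂₂ := a) ?_ (hz_fst a p τ hτ)
    (IsPullback.of_hasPullback a p).flip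
  rw [hz_snd, hτ]
  exact IsPullback.of_horiz_isIso ⟨by simp⟩

theorem isClosedImmersion_hz [IsClosedImmersion τ] : IsClosedImmersion (hz a p τ hτ) :=
  MorphismProperty.of_isPullback (P := @IsClosedImmersion) (isPullback_hz a p τ hτ).flip inferInstance

theorem ker_hz [IsClosedImmersion τ] : (hz a p τ hτ).ker = τ.ker.comap (pullback.fst a p) := by
  rw [← Scheme.IdealSheafData.ker_fst_of_isClosedImmersion τ (pullback.fst a p)]
  have h := (isPullback_hz a p τ hτ).isoPullback_hom_fst
  rw [← h, Scheme.Hom.ker_comp_of_isIso]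

theorem isField_stalk (x : Sp k) : IsField ((Sp k).presheaf.stalk x) := by
  have h : x = genericPoint (Sp k) := Subsingleton.elim _ _
  rw [h]
  exact Field.toIsField (Sp k).functionField

theorem stalkIdeal_ker [IsClosedImmersion τ] (c : C) (hc : c = τ (closedPoint k)) :
    stalkIdeal τ.ker c = maximalIdeal (C.presheaf.stalk c) := by
  subst hc
  rw [← ker_stalkMap, RingHom.ker_eq_comap_bot,
    ← (IsLocalRing.isField_iff_maximalIdeal_eq.mp (isField_stalk (closedPoint k)))]
  have h : IsLocalHom (τ.stalkMap (closedPoint k)).hom := inferInstance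
  exact ((IsLocalRing.local_hom_TFAE (τ.stalkMap (closedPoint k)).hom).out 0 4).mp h

theorem fst_hz (y : P) : pullback.fst a p (hz a p τ hτ y) = τ (closedPoint k) := by
  have h := congr($(hz_fst a p τ hτ) y)
  rw [Scheme.Hom.comp_apply, Scheme.Hom.comp_apply] at h
  rw [h]
  congr 1
  exact Subsingleton.elim _ _

theorem snd_hz (y : P) : pullback.snd a p (hz a p τ hτ y) = y := by
  have h := congr($(hz_snd a p τ hτ) y)
  rwa [Scheme.Hom.comp_apply] at h

theorem exists_hz (x : ↥(pullback a p)) (hx : pullback.fst a p x = τ (closedPoint k)) : ∃ y : P, hz a p τ hτ y = x := by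
  obtain ⟨y, hy, -⟩ := Scheme.exists_preimage_of_isPullback (isPullback_hz a p τ hτ) x (closedPoint k) hx
  exact ⟨y, hy⟩

theorem ker_stalkMap_hz [IsClosedImmersion τ] (y : P) :
    RingHom.ker ((hz a p τ hτ).stalkMap y).hom =
      (maximalIdeal (C.presheaf.stalk (pullback.fst a p (hz a p τ hτ y)))).map
        ((pullback.fst a p).stalkMap (hz a p τ hτ y)).hom := by
  have := isClosedImmersion_hz a p τ hτ
  rw [ker_stalkMap, ker_hz, stalkIdeal_comap, stalkIdeal_ker τ _ (fst_hz a p τ hτ y)]

theorem ker_stalkMap_hz' [IsClosedImmersion τ] (y : P) (z : C.presheaf.stalk (pullback.fst a p (hz a p τ hτ y)))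
    (hz' : maximalIdeal (C.presheaf.stalk (pullback.fst a p (hz a p τ hτ y))) = Ideal.span {z}) :
    RingHom.ker ((hz a p τ hτ).stalkMap y).hom =
      Ideal.span {((pullback.fst a p).stalkMap (hz a p τ hτ y)).hom z} := by
  rw [ker_stalkMap_hz, hz', Ideal.map_span, Set.image_singleton]

/-- The generic point of the curve `{c} × P`. -/
noncomputable def gth [IsIntegral P] : ↥(pullback a p) := hz a p τ hτ (genericPoint P)

theorem gth_specializes [IsIntegral P] (y : P) : gth a p τ hτ ⤳ hz a p τ hτ y :=
  (genericPoint_specializes y).map (hz a p τ hτ).continuous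

theorem comap_stalkSpecializes [IsIntegral P] (y : P) (hx : gth a p τ hτ ⤳ hz a p τ hτ y) :
    (maximalIdeal ((pullback a p).presheaf.stalk (gth a p τ hτ))).comap
      ((pullback a p).presheaf.stalkSpecializes hx).hom = RingHom.ker ((hz a p τ hτ).stalkMap y).hom := by
  ext s
  rw [Ideal.mem_comap, RingHom.mem_ker]
  have h1 : ((hz a p τ hτ).stalkMap (genericPoint P)) (((pullback a p).presheaf.stalkSpecializes hx) s) =
      P.presheaf.stalkSpecializes (genericPoint_specializes y) ((hz a p τ hτ).stalkMap y s) :=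
    Scheme.Hom.stalkSpecializes_stalkMap_apply (hz a p τ hτ) _ _ (genericPoint_specializes y) s
  have h2 : maximalIdeal (P.presheaf.stalk (genericPoint P)) = ⊥ :=
    IsLocalRing.isField_iff_maximalIdeal_eq.mp (Field.toIsField P.functionField)
  have h3 : (maximalIdeal (P.presheaf.stalk (genericPoint P))).comap ((hz a p τ hτ).stalkMap (genericPoint P)).hom =
      maximalIdeal ((pullback a p).presheaf.stalk (hz a p τ hτ (genericPoint P))) := by
    have h : IsLocalHom ((hz a p τ hτ).stalkMap (genericPoint P)).hom := inferInstance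
    exact ((IsLocalRing.local_hom_TFAE ((hz a p τ hτ).stalkMap (genericPoint P)).hom).out 0 4).mp h
  have h4 : ∀ w : (pullback a p).presheaf.stalk (hz a p τ hτ (genericPoint P)),
      w ∈ maximalIdeal ((pullback a p).presheaf.stalk (hz a p τ hτ (genericPoint P))) ↔
        ((hz a p τ hτ).stalkMap (genericPoint P)) w = 0 := by
    intro w
    rw [← h3, Ideal.mem_comap, h2, Ideal.mem_bot]
  refine (h4 _).trans ?_
  rw [h1]
  constructor
  · intro h5
    obtain ⟨U, hyU, b, hb⟩ := P.presheaf.exists_germ_eq ((hz a p τ hτ).stalkMap y s)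
    rw [← hb] at h5
    have h6 : P.presheaf.stalkSpecializes (genericPoint_specializes y) (P.presheaf.germ U y hyU b) =
        P.presheaf.germ U (genericPoint P) ((genericPoint_specializes y).mem_open U.isOpen hyU) b :=
      TopCat.Presheaf.germ_stalkSpecializes_apply _ _ _ _
    rw [h6] at h5
    have h7 : b = 0 := germ_injective_of_isIntegral P (genericPoint P) _ (by rw [h5, map_zero])
    change (hz a p τ hτ).stalkMap y s = 0
    rw [← hb, h7, map_zero]
  · intro h5
    have h6 : (hz a p τ hτ).stalkMap y s = 0 := h5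
    rw [h6, map_zero]

/-- The maximal ideal of the local ring at a point of `{c} × P`. -/
theorem maximalIdeal_hz [IsClosedImmersion τ] (y : P)
    (z : C.presheaf.stalk (pullback.fst a p (hz a p τ hτ y)))
    (hz' : maximalIdeal (C.presheaf.stalk (pullback.fst a p (hz a p τ hτ y))) = Ideal.span {z})
    (t : P.presheaf.stalk (pullback.snd a p (hz a p τ hτ y)))
    (ht : maximalIdeal (P.presheaf.stalk (pullback.snd a p (hz a p τ hτ y))) = Ideal.span {t}) :
    maximalIdeal ((pullback a p).presheaf.stalk (hz a p τ hτ y)) =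
      Ideal.span {((pullback.fst a p).stalkMap (hz a p τ hτ y)).hom z,
        ((pullback.snd a p).stalkMap (hz a p τ hτ y)).hom t} := by
  have hci := isClosedImmersion_hz a p τ hτ
  set φ := ((pullback.snd a p).stalkMap (hz a p τ hτ y)).hom with hφ
  set ψ := ((hz a p τ hτ).stalkMap y).hom with hψ
  have hsurj : Function.Surjective ψ := (hz a p τ hτ).stalkMap_surjective y
  have hloc : IsLocalHom ψ := inferInstanceAs (IsLocalHom ((hz a p τ hτ).stalkMap y).hom)
  have hcomp : ψ.comp φ = ((hz a p τ hτ ≫ pullback.snd a p).stalkMap y).hom := by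
    rw [hφ, hψ, ← CommRingCat.hom_comp]
    exact congrArg CommRingCat.Hom.hom (Scheme.Hom.stalkMap_comp (hz a p τ hτ) (pullback.snd a p) y).symm
  have hiso : IsIso ((hz a p τ hτ ≫ pullback.snd a p).stalkMap y) := by
    have : IsIso (hz a p τ hτ ≫ pullback.snd a p) := by rw [hz_snd]; infer_instance
    infer_instance
  have hbij : Function.Bijective (ψ.comp φ) := by
    rw [hcomp]
    exact ConcreteCategory.bijective_of_isIso ((hz a p τ hτ ≫ pullback.snd a p).stalkMap y)
  have hm : maximalIdeal (P.presheaf.stalk y) = Ideal.span {ψ (φ t)} := by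
    have h1 : IsLocalHom (ψ.comp φ) := by
      rw [hcomp]
      exact inferInstanceAs (IsLocalHom ((hz a p τ hτ ≫ pullback.snd a p).stalkMap y).hom)
    have h2 : (maximalIdeal (P.presheaf.stalk y)).comap (ψ.comp φ) =
        maximalIdeal (P.presheaf.stalk ((pullback.snd a p) (hz a p τ hτ y))) :=
      ((IsLocalRing.local_hom_TFAE (ψ.comp φ)).out 0 4).mp h1
    rw [← Ideal.map_comap_of_surjective (ψ.comp φ) hbij.2 (maximalIdeal (P.presheaf.stalk y)), h2, ht, Ideal.map_span,
      Set.image_singleton]
    rfl
  have hk := ker_stalkMap_hz' a p τ hτ y z hz'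
  have hc : (maximalIdeal (P.presheaf.stalk y)).comap ψ =
      maximalIdeal ((pullback a p).presheaf.stalk (hz a p τ hτ y)) :=
    ((IsLocalRing.local_hom_TFAE ψ).out 0 4).mp hloc
  apply le_antisymm
  · intro s hs
    rw [← hc, Ideal.mem_comap, hm, Ideal.mem_span_singleton'] at hs
    obtain ⟨r, hr⟩ := hs
    obtain ⟨r', rfl⟩ := hsurj r
    have h1 : s - r' * φ t ∈ RingHom.ker ψ := by
      rw [RingHom.mem_ker, map_sub, map_mul, hr, sub_self]
    rw [hψ, hk, Ideal.mem_span_singleton'] at h1
    obtain ⟨q, hq⟩ := h1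
    rw [Ideal.mem_span_pair]
    exact ⟨q, r', by rw [hq]; ring⟩
  · rw [Ideal.span_le]
    rintro s (rfl | rfl)
    · rw [SetLike.mem_coe, ← hc, Ideal.mem_comap]
      have h1 : ((pullback.fst a p).stalkMap (hz a p τ hτ y)).hom z ∈ RingHom.ker ((hz a p τ hτ).stalkMap y).hom := by
        rw [hk]
        exact Ideal.mem_span_singleton_self _
      rw [hψ, RingHom.mem_ker.mp h1]
      exact Ideal.zero_mem _
    · rw [SetLike.mem_coe, ← hc, Ideal.mem_comap, hm]
      exact Ideal.mem_span_singleton_self _

end Hor

theorem stalkMap_injective_of_flat {X Y : Scheme.{u}} (f : X ⟶ Y) [Flat f] (x : X) :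
    Function.Injective (f.stalkMap x) := by
  algebraize [(f.stalkMap x).hom]
  have : Module.FaithfullyFlat (Y.presheaf.stalk (f x)) (X.presheaf.stalk x) :=
    @Module.FaithfullyFlat.of_flat_of_isLocalHom _ _ _ _ _ _ _
      (Flat.stalkMap f x) (f.toLRSHom.prop x)
  exact ‹RingHom.FaithfullyFlat _›.injective

/-- The product of two integral schemes over an algebraically closed field is integral. -/
theorem isIntegral_prod {k : Type u} [Field k] [IsAlgClosed k] {C P : Scheme.{u}} (a : C ⟶ Sp k) (p : P ⟶ Sp k)
    [IsIntegral C] [IsIntegral P] [LocallyOfFiniteType a] : IsIntegral (pullback a p) := by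
  have h1 : GeometricallyIntegral p := by
    have := Fdesc.GeomAlgClosed.geometricallyIrreducible_of_irreducibleSpace p
    have := Sga3C.GeomRedPerf.geometricallyReduced_of_isReduced p
    exact .of_geometricallyReduced_of_geometricallyIrreducible _
  have h2 : IsLocallyNoetherian C := LocallyOfFiniteType.isLocallyNoetherian a
  infer_instance

/-- Task B of the plan for S16510 (`K329.Plan510.ProdSurf`). -/
theorem prodSurf (k : Type u) [Field k] [IsAlgClosed k] :
    ∀ (C P : Scheme.{u}) (a : C ⟶ Sp k) (p : P ⟶ Sp k) [IsIntegral C] [IsIntegral P] [Smooth a] [Smooth p]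
    [IsProper a] [IsProper p] (_ : topologicalKrullDim C = 1) (_ : topologicalKrullDim P = 1),
    IsIntegral (pullback a p) ∧ topologicalKrullDim ↥(pullback a p) = 2 ∧
    (∀ c : C, IsClosed ({c} : Set C) → ∃ θ : ↥(pullback a p), (pullback.fst a p) θ = c ∧
      (pullback.snd a p) θ = genericPoint P ∧ ringKrullDim ((pullback a p).presheaf.stalk θ) = 1 ∧
      ∀ x : ↥(pullback a p), (pullback.fst a p) x = c → ∃ hx : θ ⤳ x,
        ∀ z : C.presheaf.stalk ((pullback.fst a p) x), maximalIdeal (C.presheaf.stalk ((pullback.fst a p) x)) = Ideal.span {z} →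
          (maximalIdeal ((pullback a p).presheaf.stalk θ)).comap
            ((pullback a p).presheaf.stalkSpecializes hx).hom = Ideal.span {(pullback.fst a p).stalkMap x z}) ∧
    ∀ x : ↥(pullback a p), IsClosed ({x} : Set ↥(pullback a p)) →
      ∀ (z : C.presheaf.stalk ((pullback.fst a p) x)) (t : P.presheaf.stalk ((pullback.snd a p) x)),
        maximalIdeal (C.presheaf.stalk ((pullback.fst a p) x)) = Ideal.span {z} →
        maximalIdeal (P.presheaf.stalk ((pullback.snd a p) x)) = Ideal.span {t} →
        maximalIdeal ((pullback a p).presheaf.stalk x) =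
          Ideal.span {((pullback.fst a p).stalkMap x).hom z, ((pullback.snd a p).stalkMap x).hom t} := by
  intro C P a p _ _ _ _ _ _ hC hP
  have hint := isIntegral_prod a p
  refine ⟨hint, ?_, ?_, ?_⟩
  · rw [K106.Dim.topologicalKrullDim_pullback_eq_add, hC, hP]
    norm_num
  · intro c hc
    let τ := pointOfClosedPoint a c hc
    have hτ : τ ≫ a = 𝟙 _ := pointOfClosedPoint_comp _ _ _
    have hτc : τ (closedPoint k) = c := pointOfClosedPoint_apply _ _ _ _
    have hcl : IsClosedImmersion τ := isClosedImmersion_of_comp_eq_id _ _ hτ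
    have key : ∀ x : ↥(pullback a p), (pullback.fst a p) x = c → ∃ hx : gth a p τ hτ ⤳ x,
        ∀ z : C.presheaf.stalk ((pullback.fst a p) x), maximalIdeal (C.presheaf.stalk ((pullback.fst a p) x)) = Ideal.span {z} →
          (maximalIdeal ((pullback a p).presheaf.stalk (gth a p τ hτ))).comap
            ((pullback a p).presheaf.stalkSpecializes hx).hom = Ideal.span {(pullback.fst a p).stalkMap x z} := by
      intro x hx
      obtain ⟨y, rfl⟩ := exists_hz a p τ hτ x (hx.trans hτc.symm)
      refine ⟨gth_specializes a p τ hτ y, fun z hz' => ?_⟩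
      rw [comap_stalkSpecializes]
      exact ker_stalkMap_hz' a p τ hτ y z hz'
    have hθ : (pullback.fst a p) (gth a p τ hτ) = c := (fst_hz a p τ hτ _).trans hτc
    refine ⟨gth a p τ hτ, hθ, snd_hz a p τ hτ _, ?_, key⟩
    -- the local ring at `θ` is a discrete valuation ring
    have hne : c ≠ genericPoint C := (CurvesA.CurveDvr.isClosed_singleton_iff hC c).mp hc
    have hdvr : IsDiscreteValuationRing (C.presheaf.stalk ((pullback.fst a p) (gth a p τ hτ))) :=
      CurvesA.CurveDvr.isDiscreteValuationRing_stalk a hC.le _ (by rw [hθ]; exact hne)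
    obtain ⟨z, hz'⟩ := IsDiscreteValuationRing.exists_irreducible (C.presheaf.stalk ((pullback.fst a p) (gth a p τ hτ)))
    have hzm := hz'.maximalIdeal_eq
    obtain ⟨hx, h1⟩ := key _ hθ
    have h2 : maximalIdeal ((pullback a p).presheaf.stalk (gth a p τ hτ)) =
        Ideal.span {(pullback.fst a p).stalkMap (gth a p τ hτ) z} := by
      rw [← h1 z hzm, TopCat.Presheaf.stalkSpecializes_refl]
      rfl
    have hnoe : IsLocallyNoetherian (pullback a p) := LocallyOfFiniteType.isLocallyNoetherian (pullback.fst a p ≫ a)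
    have hinj : Function.Injective ((pullback.fst a p).stalkMap (gth a p τ hτ)) :=
      stalkMap_injective_of_flat _ _
    have hnf : ¬ IsField ((pullback a p).presheaf.stalk (gth a p τ hτ)) := by
      intro hf
      have h3 := IsLocalRing.isField_iff_maximalIdeal_eq.mp hf
      rw [h2, Ideal.span_singleton_eq_bot] at h3
      exact hz'.ne_zero (hinj (h3.trans (map_zero _).symm))
    have hpr : (maximalIdeal ((pullback a p).presheaf.stalk (gth a p τ hτ))).IsPrincipal := by
      rw [h2]
      exact ⟨⟨_, rfl⟩⟩
    have hd : IsDiscreteValuationRing ((pullback a p).presheaf.stalk (gth a p τ hτ)) :=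
      ((IsDiscreteValuationRing.TFAE ((pullback a p).presheaf.stalk (gth a p τ hτ)) hnf).out 0 4).mpr hpr
    exact IsDiscreteValuationRing.ringKrullDim_eq_one _
  · intro x hx z t hz' ht
    have hc : IsClosed ({(pullback.fst a p) x} : Set C) := by
      have := (pullback.fst a p).isClosedMap _ hx
      rwa [Set.image_singleton] at this
    let τ := pointOfClosedPoint a _ hc
    have hτ : τ ≫ a = 𝟙 _ := pointOfClosedPoint_comp _ _ _
    have hτc : τ (closedPoint k) = (pullback.fst a p) x := pointOfClosedPoint_apply _ _ _ _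
    have hcl : IsClosedImmersion τ := isClosedImmersion_of_comp_eq_id _ _ hτ
    clear_value τ
    obtain ⟨y, rfl⟩ := exists_hz a p τ hτ x hτc.symm
    exact maximalIdeal_hz a p τ hτ y z hz' t ht

end K40.ProdSurf
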