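import Groth.Agent.Curves.K756.LocLift
import Mathlib.Algebra.TrivSqZeroExt.Basic

/-!
# Derivations of a local ring of a projective scheme with values in a field

`P` a `k`-algebra all of whose elements are quotients `g(c)/h(c)` of values of polynomials at a tuple `c`, `χ : P → K`
a homomorphism to a field.  Derivations `P → K` are the vectors `w` with `∑ ∂_l g(c) w_l = 0` for all `g` with `g(c) = 0`.
-/

set_option autoImplicit false
universe u

open MvPolynomial

namespace K40.TanAlg

open K756.LocLift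

variable {k : Type u} [Field k] {σ : Type} [Fintype σ]

section Lin

variable {K : Type u} [Field K] [Algebra k K]

/-- The derivative of `g` at `a` in the direction `w`. -/
noncomputable def dd (a w : σ → K) (g : MvPolynomial σ k) : K := ∑ l, aeval a (pderiv l g) * w l

theorem dd_add (a w : σ → K) (g h : MvPolynomial σ k) : dd a w (g + h) = dd a w g + dd a w h := by
  simp [dd, add_mul, Finset.sum_add_distrib]

theorem dd_sub (a w : σ → K) (g h : MvPolynomial σ k) : dd a w (g - h) = dd a w g - dd a w h := by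
  simp [dd, sub_mul, Finset.sum_sub_distrib]

theorem dd_mul (a w : σ → K) (g h : MvPolynomial σ k) :
    dd a w (g * h) = aeval a g * dd a w h + aeval a h * dd a w g := by
  simp only [dd, Derivation.leibniz, smul_eq_mul, map_add, map_mul, add_mul, Finset.sum_add_distrib,
    Finset.mul_sum, mul_assoc]

theorem dd_C (a w : σ → K) (r : k) : dd a w (C r) = 0 := by simp [dd]

theorem dd_X (a w : σ → K) (l : σ) : dd a w (X l : MvPolynomial σ k) = w l := by
  classical
  rw [dd, Finset.sum_eq_single l]
  · simp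
  · intro b _ hb
    rw [pderiv_X, Pi.single_eq_of_ne hb.symm, map_zero, zero_mul]
  · intro h
    exact absurd (Finset.mem_univ l) h

/-- Taylor expansion over the dual numbers. -/
theorem snd_aeval (a w : σ → K) (g : MvPolynomial σ k) :
    (aeval (fun l => (TrivSqZeroExt.inl (a l) + TrivSqZeroExt.inr (w l) : TrivSqZeroExt K K)) g).fst = aeval a g ∧
    (aeval (fun l => (TrivSqZeroExt.inl (a l) + TrivSqZeroExt.inr (w l) : TrivSqZeroExt K K)) g).snd = dd a w g := by
  induction g using MvPolynomial.induction_on with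
  | C r =>
    rw [aeval_C, aeval_C, dd_C]
    exact ⟨rfl, rfl⟩
  | add p q hp hq =>
    rw [map_add, map_add, dd_add, TrivSqZeroExt.fst_add, TrivSqZeroExt.snd_add, hp.1, hp.2, hq.1, hq.2]
    exact ⟨rfl, rfl⟩
  | mul_X p m hp =>
    rw [map_mul, map_mul, dd_mul, TrivSqZeroExt.fst_mul, TrivSqZeroExt.snd_mul, hp.1, hp.2, aeval_X, aeval_X, dd_X]
    simp [mul_comm]

/-- The derivative of the homogenization. -/
theorem dd_rep {i : σ} {g : MvPolynomial σ k} {n : ℕ} {G : MvPolynomial σ k} (h : Rep i g n G) (a w : σ → K)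
    (ha : a i = 1) (hw : w i = 0) : dd a w G = dd a w g := by
  have h1 := h.2 (TrivSqZeroExt K K) 1
    (fun l => (TrivSqZeroExt.inl (a l) + TrivSqZeroExt.inr (w l) : TrivSqZeroExt K K)) (by rw [ha, hw]; simp)
  rw [one_pow, one_mul] at h1
  simp only [one_mul] at h1
  have h2 := congrArg TrivSqZeroExt.snd h1
  rw [(snd_aeval a w G).2, (snd_aeval a w g).2] at h2
  exact h2

theorem dd_smul (v : K) (a w : σ → K) {n : ℕ} {G : MvPolynomial σ k} (hG : G.IsHomogeneous n) :
    v * dd (fun l => v * a l) w G = v ^ n * dd a w G := by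
  rw [dd, dd, Finset.mul_sum, Finset.mul_sum]
  refine Finset.sum_congr rfl fun l _ => ?_
  rcases Nat.eq_zero_or_pos n with h0 | h0
  · subst h0
    have h4 : pderiv l G = 0 := by
      rw [← totalDegree_zero_iff_isHomogeneous, totalDegree_eq_zero_iff_eq_C] at hG
      rw [hG, pderiv_C]
    rw [h4, map_zero, map_zero]
    simp
  · rw [aeval_smul v a (hG.pderiv (i := l))]
    obtain ⟨m, rfl⟩ : ∃ m, n = m + 1 := ⟨n - 1, by omega⟩
    rw [Nat.add_sub_cancel, pow_succ]
    ring

theorem dd_comb (a : σ → K) (u : σ → K) (x : K) {n : ℕ} {G : MvPolynomial σ k} (hG : G.IsHomogeneous n)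
    (h0 : aeval a G = 0) (hu : dd a u G = 0) : dd a (fun l => u l - a l * x) G = 0 := by
  have h1 : G ∈ coneI a := (mem_coneI_of_homogeneous a hG).2 h0
  have h2 := sum_pderiv_mul h1
  have h3 : dd a (fun l => u l - a l * x) G = dd a u G - (∑ l, aeval a (pderiv l G) * a l) * x := by
    rw [dd, dd, Finset.sum_mul, ← Finset.sum_sub_distrib]
    exact Finset.sum_congr rfl fun l _ => by ring
  rw [h3, hu, h2, zero_mul, sub_zero]

/-- From the tangent condition for forms to the tangent condition for all polynomials. -/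
theorem dd_eq_zero {P : Type u} [CommRing P] [Algebra k P] (χ : P →ₐ[k] K) {i : σ} (β : σ → P) (u w : σ → K)
    (x : K) (hx : x ≠ 0) (hβ : β i = 1) (hw : ∀ l, x * w l = u l - χ (β l) * u i)
    (h : ∀ (n : ℕ) (G : MvPolynomial σ k), G.IsHomogeneous n → aeval β G = 0 → dd (fun l => χ (β l)) u G = 0)
    (g : MvPolynomial σ k) (hg : aeval β g = 0) : dd (fun l => χ (β l)) w g = 0 := by
  obtain ⟨n, G, hG⟩ := exists_rep i g
  have ha : χ (β i) = 1 := by rw [hβ, map_one]
  have hwi : w i = 0 := by
    have := hw i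
    rw [ha, one_mul, sub_self] at this
    exact (mul_eq_zero.1 this).resolve_left hx
  rw [← dd_rep hG (fun l => χ (β l)) w ha hwi]
  have h1 : aeval β G = 0 := aeval_eq_zero (hG.mem_coneI hβ hg)
  have h1' : aeval (fun l => χ (β l)) G = 0 := by
    have h5 : aeval (fun l => χ (β l)) G = χ (aeval β G) := by
      rw [← AlgHom.comp_apply, MvPolynomial.comp_aeval]
    rw [h5, h1, map_zero]
  have h2 := dd_comb _ u (u i) hG.1 h1' (h n G hG.1 h1)
  have h3 : dd (fun l => χ (β l)) (fun l => u l - χ (β l) * u i) G = x * dd (fun l => χ (β l)) w G := by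
    rw [dd, dd, Finset.mul_sum]
    refine Finset.sum_congr rfl fun l _ => ?_
    rw [← hw l]
    ring
  rw [h3] at h2
  exact (mul_eq_zero.1 h2).resolve_left hx

end Lin

section Der

variable {P K : Type u} [CommRing P] [Algebra k P] [Field K] [Algebra k K]

/-- Derivations over a ring homomorphism. -/
structure IsDer (χ : P →ₐ[k] K) (δ : P → K) : Prop where
  add : ∀ p q, δ (p + q) = δ p + δ q
  mul : ∀ p q, δ (p * q) = χ p * δ q + χ q * δ p
  const : ∀ r : k, δ (algebraMap k P r) = 0

theorem IsDer.eval {χ : P →ₐ[k] K} {δ : P → K} (h : IsDer χ δ) (c : σ → P) (g : MvPolynomial σ k) :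
    δ (aeval c g) = dd (fun l => χ (c l)) (fun l => δ (c l)) g := by
  have hχ : ∀ g : MvPolynomial σ k, χ (aeval c g) = aeval (fun l => χ (c l)) g := fun g => by
    rw [← AlgHom.comp_apply, MvPolynomial.comp_aeval]
  induction g using MvPolynomial.induction_on with
  | C r => rw [aeval_C, dd_C, h.const]
  | add p q hp hq => rw [map_add, h.add, hp, hq, dd_add]
  | mul_X p m hp => rw [map_mul, h.mul, hp, dd_mul, hχ, aeval_X, aeval_X, dd_X, mul_comm (χ (c m))]

variable (c : σ → P)
  (hS : ∀ p : P, ∃ a b : MvPolynomial σ k, IsUnit (aeval c b) ∧ p * aeval c b = aeval c a)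

include hS in
/-- A derivation is determined by its values on the coordinates. -/
theorem IsDer.ext {χ : P →ₐ[k] K} {δ δ' : P → K} (h : IsDer χ δ) (h' : IsDer χ δ')
    (hl : ∀ l, δ (c l) = δ' (c l)) : δ = δ' := by
  funext p
  obtain ⟨a, b, hb, hp⟩ := hS p
  have h1 := h.mul p (aeval c b)
  have h2 := h'.mul p (aeval c b)
  rw [hp, h.eval c, h.eval c] at h1
  rw [hp, h'.eval c, h'.eval c] at h2
  have h3 : (fun l => δ (c l)) = fun l => δ' (c l) := funext hl
  rw [h3] at h1
  rw [h2] at h1
  have h4 : χ (aeval c b) ≠ 0 := (hb.map χ).ne_zero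
  exact (mul_left_cancel₀ h4 (add_left_cancel h1)).symm

/-- Values of a derivation on a fraction. -/
theorem IsDer.frac {χ : P →ₐ[k] K} {δ : P → K} (h : IsDer χ δ) {p : P} {a b : MvPolynomial σ k}
    (hp : p * aeval c b = aeval c a) :
    χ (aeval c b) * δ p = dd (fun l => χ (c l)) (fun l => δ (c l)) a -
      χ p * dd (fun l => χ (c l)) (fun l => δ (c l)) b := by
  have h1 := h.mul p (aeval c b)
  rw [hp, h.eval c, h.eval c] at h1
  rw [h1]
  ring

include hS in
/-- Existence of a derivation with given values on the coordinates. -/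
theorem exists_isDer (χ : P →ₐ[k] K) (w : σ → K)
    (hw : ∀ g : MvPolynomial σ k, aeval c g = 0 → dd (fun l => χ (c l)) w g = 0) :
    ∃ δ : P → K, IsDer χ δ ∧ ∀ l, δ (c l) = w l := by
  have hχ : ∀ g : MvPolynomial σ k, χ (aeval c g) = aeval (fun l => χ (c l)) g := fun g => by
    rw [← AlgHom.comp_apply, MvPolynomial.comp_aeval]
  choose A B hB hAB using hS
  let D : MvPolynomial σ k → K := dd (fun l => χ (c l)) w
  have hDmul : ∀ g h, D (g * h) = χ (aeval c g) * D h + χ (aeval c h) * D g := fun g h => by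
    rw [hχ, hχ]; exact dd_mul _ _ g h
  have hχB : ∀ p, χ (aeval c (B p)) ≠ 0 := fun p => ((hB p).map χ).ne_zero
  let δ : P → K := fun p => (D (A p) - χ p * D (B p)) / χ (aeval c (B p))
  have key : ∀ (p : P) (a b : MvPolynomial σ k), IsUnit (aeval c b) → p * aeval c b = aeval c a →
      χ (aeval c b) * δ p = D a - χ p * D b := by
    intro p a b hb hp
    have h1 : aeval c (a * B p - A p * b) = 0 := by
      rw [map_sub, map_mul, map_mul, ← hp, ← hAB p]
      ring
    have h2 : D (a * B p) - D (A p * b) = 0 := (dd_sub _ _ _ _).symm.trans (hw _ h1)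
    rw [hDmul, hDmul, ← hp, ← hAB p, map_mul, map_mul] at h2
    have h3 : χ (aeval c (B p)) * (χ (aeval c b) * δ p) = χ (aeval c (B p)) * (D a - χ p * D b) := by
      have h4 : χ (aeval c (B p)) * δ p = D (A p) - χ p * D (B p) := by
        change χ (aeval c (B p)) * ((D (A p) - χ p * D (B p)) / χ (aeval c (B p))) = _
        rw [mul_div_cancel₀ _ (hχB p)]
      rw [mul_left_comm, h4]
      linear_combination -h2
    exact mul_left_cancel₀ (hχB p) h3
  refine ⟨δ, ⟨fun p q => ?_, fun p q => ?_, fun r => ?_⟩, fun l => ?_⟩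
  · have h1 := key (p + q) (A p * B q + A q * B p) (B p * B q) (by rw [map_mul]; exact (hB p).mul (hB q))
      (by simp only [map_mul, map_add]; rw [← hAB p, ← hAB q]; ring)
    have h2 := key p _ _ (hB p) (hAB p)
    have h3 := key q _ _ (hB q) (hAB q)
    have h5 : D (A p * B q + A q * B p) = D (A p * B q) + D (A q * B p) := dd_add _ _ _ _
    rw [h5, hDmul, hDmul, hDmul, map_mul, map_mul, map_add, ← hAB p, ← hAB q, map_mul, map_mul] at h1
    have h4 : χ (aeval c (B p)) * χ (aeval c (B q)) ≠ 0 := mul_ne_zero (hχB p) (hχB q)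
    apply mul_left_cancel₀ h4
    rw [h1]
    linear_combination (-χ (aeval c (B q))) * h2 - χ (aeval c (B p)) * h3
  · have h1 := key (p * q) (A p * A q) (B p * B q) (by rw [map_mul]; exact (hB p).mul (hB q))
      (by rw [map_mul, map_mul, ← hAB p, ← hAB q]; ring)
    have h2 := key p _ _ (hB p) (hAB p)
    have h3 := key q _ _ (hB q) (hAB q)
    rw [hDmul, hDmul, map_mul, map_mul, ← hAB p, ← hAB q, map_mul, map_mul, map_mul] at h1
    have h4 : χ (aeval c (B p)) * χ (aeval c (B q)) ≠ 0 := mul_ne_zero (hχB p) (hχB q)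
    apply mul_left_cancel₀ h4
    rw [h1]
    linear_combination (-χ (aeval c (B q)) * χ q) * h2 - χ (aeval c (B p)) * χ p * h3
  · have h1 := key (algebraMap k P r) (C r) 1 (by rw [map_one]; exact isUnit_one) (by rw [map_one, mul_one, aeval_C])
    have h5 : D (C r) = 0 := dd_C _ _ _
    have h6 : D 1 = 0 := by
      have := dd_C (fun l => χ (c l)) w (1 : k)
      rw [map_one] at this
      exact this
    rw [h5, h6, map_one, map_one, one_mul, mul_zero, sub_zero] at h1
    exact h1
  · have h1 := key (c l) (X l) 1 (by rw [map_one]; exact isUnit_one) (by rw [map_one, mul_one, aeval_X])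
    have h5 : D (X l) = w l := dd_X _ _ _
    have h6 : D 1 = 0 := by
      have := dd_C (fun l => χ (c l)) w (1 : k)
      rw [map_one] at this
      exact this
    rw [h5, h6, map_one, map_one, one_mul, mul_zero, sub_zero] at h1
    exact h1

end Der

section Tan

variable {P K : Type u} [CommRing P] [Algebra k P] [Field K] [Algebra k K]

/-- The derivative of the affine coordinates `β_l / β_{i₀}` from the derivatives of the homogeneous coordinates. -/
theorem IsDer.ratio {χ : P →ₐ[k] K} {δ : P → K} (h : IsDer χ δ) (β a : σ → P) (i₀ : σ) (e : K)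
    (hβ : ∀ l, β l = β i₀ * a l) (he : e * χ (β i₀) = 1) (l : σ) :
    δ (a l) = e * (δ (β l) - δ (β i₀) * χ (a l)) := by
  have h1 := h.mul (β i₀) (a l)
  rw [← hβ l] at h1
  rw [h1]
  linear_combination (-δ (a l)) * he

end Tan

end K40.TanAlg
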