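import Groth.Agent.Curves.K756.FamDef
import Groth.Agent.Curves.K40.TanAlg
import Groth.Agent.Models.K381.StHom

/-!
# Homogeneous coordinates of morphisms to projective space: existence, uniqueness, functoriality

For a closed immersion `ι : X ⟶ P^N` and coordinates `c` at `x` with `c i = 1`, every element of the local ring of `X`
at `x` is a quotient of values of polynomials at `c`.
-/

set_option autoImplicit false
universe u
open CategoryTheory CategoryTheory.Limits AlgebraicGeometry TopologicalSpace Opposite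

noncomputable section

namespace K40.TanCoord

open K756.FamDef K756.LocLift K329.Pt Groth.Agent.VarietyB.ProjHom Groth.Agent.Sga5.ProjChart CohB1
open Groth.Agent.Sga7.H132.ProjPts (chart chart_toSpec)

attribute [local instance] Curv2.stalkAlgebra

variable (k : Type u) [Field k]

theorem fromSpecStalk_over (Y : Scheme.{u}) [Y.Over (Spec (CommRingCat.of k))] (y : Y) :
    Y.fromSpecStalk y ≫ (Y ↘ Spec (CommRingCat.of k)) =
      Spec.map (CommRingCat.ofHom (algebraMap k (Y.presheaf.stalk y))) :=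
  (K381.StHom.specMap_st (Y ↘ Spec (CommRingCat.of k)) y).symm

/-- The map on local rings of a morphism over `k`, as a homomorphism of `k`-algebras. -/
def pAlg {X Y : Scheme.{u}} [X.Over (Spec (CommRingCat.of k))] [Y.Over (Spec (CommRingCat.of k))] (f : Y ⟶ X)
    (hf : f ≫ (X ↘ Spec (CommRingCat.of k)) = Y ↘ Spec (CommRingCat.of k)) (z : Y) :
    X.presheaf.stalk (f z) →ₐ[k] Y.presheaf.stalk z :=
  { (f.stalkMap z).hom with
    commutes' := fun r => by
      have h1 := K381.StHom.st_comp (X ↘ Spec (CommRingCat.of k)) f z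
      rw [hf] at h1
      exact DFunLike.congr_fun h1 r }

section Coord

variable {k} {N : ℕ} {X Y : Scheme.{u}} [X.Over (Spec (CommRingCat.of k))] [Y.Over (Spec (CommRingCat.of k))]

theorem exists_isCoord (g : Y ⟶ ProjSpace N k) (hg : g ≫ ProjSpace.toSpec N k = Y ↘ Spec (CommRingCat.of k))
    (y : Y) : ∃ b, IsCoord k g y b := by
  let m : Spec (CommRingCat.of (Y.presheaf.stalk y)) ⟶ ProjSpace N k := Y.fromSpecStalk y ≫ g
  have hm : m ≫ ProjSpace.toSpec N k = Spec.map (CommRingCat.ofHom (algebraMap k (Y.presheaf.stalk y))) := by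
    change (Y.fromSpecStalk y ≫ g) ≫ ProjSpace.toSpec N k = _
    rw [Category.assoc, hg, fromSpecStalk_over]
  obtain ⟨b, i, hi, h⟩ := exists_pt k (B := Y.presheaf.stalk y) m hm
  exact ⟨b, i, hi, h⟩

theorem isCoord_spc {g : Y ⟶ ProjSpace N k} {x y : Y} (h : x ⤳ y) {b : Fin (N + 1) → Y.presheaf.stalk y}
    (hb : IsCoord k g y b) : IsCoord k g x (fun l => spcAlg k Y h (b l)) := by
  obtain ⟨i, hi, e⟩ := hb
  refine ⟨i, hi.map _, ?_⟩
  rw [← Scheme.SpecMap_stalkSpecializes_fromSpecStalk h, Category.assoc, e]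
  exact map_pt k (spcAlg k Y h) b i hi

theorem isCoord_pull (f : Y ⟶ X) (hf : f ≫ (X ↘ Spec (CommRingCat.of k)) = Y ↘ Spec (CommRingCat.of k))
    {g : X ⟶ ProjSpace N k} {z : Y} {b : Fin (N + 1) → X.presheaf.stalk (f z)}
    (hb : IsCoord k g (f z) b) : IsCoord k (f ≫ g) z (fun l => pAlg k f hf z (b l)) := by
  obtain ⟨i, hi, e⟩ := hb
  refine ⟨i, hi.map _, ?_⟩
  rw [← Scheme.SpecMap_stalkMap_fromSpecStalk_assoc, e]
  exact map_pt k (pAlg k f hf z) b i hi

theorem isCoord_smul {g : Y ⟶ ProjSpace N k} {y : Y} {b c : Fin (N + 1) → Y.presheaf.stalk y}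
    (hb : IsCoord k g y b) {v : Y.presheaf.stalk y} (hv : IsUnit v) (hc : ∀ l, c l = v * b l) : IsCoord k g y c := by
  obtain ⟨i, hi, e⟩ := hb
  have hci : IsUnit (c i) := by rw [hc]; exact hv.mul hi
  exact ⟨i, hci, e.trans (pt_smul k v hv b i hi c hc i hci).symm⟩

/-- Coordinates are unique up to units. -/
theorem exists_unit [IsIntegral Y] {g : Y ⟶ ProjSpace N k} {y : Y} {b c : Fin (N + 1) → Y.presheaf.stalk y}
    (hb : IsCoord k g y b) (hc : IsCoord k g y c) : ∃ v : Y.presheaf.stalk y, IsUnit v ∧ ∀ l, c l = v * b l := by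
  have hsp := (genericPoint_spec Y).specializes (Set.mem_univ y)
  obtain ⟨i', hi', e⟩ := isCoord_spc hsp hb
  obtain ⟨j', hj', e'⟩ := isCoord_spc hsp hc
  obtain ⟨v, hv, hvl⟩ := exists_smul_of_pt_eq (k := k) (F := Y.functionField) hi' hj' (e.symm.trans e')
  have hinj : Function.Injective (algebraMap (Y.presheaf.stalk y) Y.functionField) :=
    IsFractionRing.injective _ _
  obtain ⟨i, hi, -⟩ := hb
  obtain ⟨j, hj, -⟩ := hc
  obtain ⟨w, hw⟩ := hi.exists_right_inv
  have h1 : v = algebraMap (Y.presheaf.stalk y) Y.functionField (c i * w) := by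
    have h2 : algebraMap (Y.presheaf.stalk y) Y.functionField (c i) =
      v * algebraMap (Y.presheaf.stalk y) Y.functionField (b i) := hvl i
    rw [map_mul, h2, mul_assoc, ← map_mul, hw, map_one, mul_one]
  have h3 : ∀ l, c l = (c i * w) * b l := fun l => by
    apply hinj
    rw [map_mul, ← h1]
    exact hvl l
  refine ⟨c i * w, ?_, h3⟩
  have h4 := h3 j
  rw [h4] at hj
  exact isUnit_of_mul_isUnit_left hj

/-- Normalized coordinates. -/
theorem exists_isCoord_one (g : Y ⟶ ProjSpace N k)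
    (hg : g ≫ ProjSpace.toSpec N k = Y ↘ Spec (CommRingCat.of k)) (y : Y) :
    ∃ (b : Fin (N + 1) → Y.presheaf.stalk y) (i : Fin (N + 1)), IsCoord k g y b ∧ b i = 1 := by
  obtain ⟨b, hb⟩ := exists_isCoord g hg y
  obtain ⟨i, hi, -⟩ := id hb
  obtain ⟨w, hw⟩ := hi.exists_left_inv
  have hwu : IsUnit w := isUnit_of_mul_isUnit_left (by rw [hw]; exact isUnit_one)
  exact ⟨fun l => w * b l, i, isCoord_smul hb hwu fun _ => rfl, hw⟩

/-- A form vanishing at the coordinates at one point vanishes on `X`. -/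
theorem mem_van [IsIntegral X] {ι : X ⟶ ProjSpace N k} {x : X} {b : Fin (N + 1) → X.presheaf.stalk x}
    (hb : IsCoord k ι x b) {n : ℕ} {G : MvPolynomial (Fin (N + 1)) k} (hG : G.IsHomogeneous n)
    (h0 : MvPolynomial.aeval b G = 0) : G ∈ Van k ι := by
  refine ⟨⟨n, hG⟩, fun y c hc => ?_⟩
  have hx := (genericPoint_spec X).specializes (Set.mem_univ x)
  have hy := (genericPoint_spec X).specializes (Set.mem_univ y)
  obtain ⟨v, -, hv⟩ := exists_unit (isCoord_spc hx hb) (isCoord_spc hy hc)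
  have hinj : Function.Injective (algebraMap (X.presheaf.stalk y) X.functionField) :=
    IsFractionRing.injective _ _
  apply hinj
  rw [map_zero]
  have h1 : MvPolynomial.aeval (fun l => spcAlg k X hy (c l)) G = spcAlg k X hy (MvPolynomial.aeval c G) := by
    rw [← AlgHom.comp_apply, MvPolynomial.comp_aeval]
  have h2 : MvPolynomial.aeval (fun l => spcAlg k X hx (b l)) G = spcAlg k X hx (MvPolynomial.aeval b G) := by
    rw [← AlgHom.comp_apply, MvPolynomial.comp_aeval]
  refine h1.symm.trans ?_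
  have h3 : (fun l => spcAlg k X hy (c l)) = fun l => v * spcAlg k X hx (b l) := funext hv
  rw [h3, aeval_smul _ _ hG, h2, h0, map_zero, mul_zero]

/-- Coordinates of a composition come from coordinates of the second map. -/
theorem exists_pull [IsIntegral Y] (f : Y ⟶ X)
    (hf : f ≫ (X ↘ Spec (CommRingCat.of k)) = Y ↘ Spec (CommRingCat.of k))
    (ι : X ⟶ ProjSpace N k) (hι : ι ≫ ProjSpace.toSpec N k = X ↘ Spec (CommRingCat.of k))
    (z : Y) (b : Fin (N + 1) → Y.presheaf.stalk z) (hb : IsCoord k (f ≫ ι) z b) (i : Fin (N + 1))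
    (hi : IsUnit (b i)) :
    ∃ c : Fin (N + 1) → X.presheaf.stalk (f z), IsCoord k ι (f z) c ∧ c i = 1 ∧
      ∀ l, b l = b i * pAlg k f hf z (c l) := by
  obtain ⟨γ, hγ⟩ := exists_isCoord ι hι (f z)
  obtain ⟨v, hv, hvl⟩ := exists_unit (isCoord_pull f hf hγ) hb
  have h1 : IsUnit (pAlg k f hf z (γ i)) := by
    rw [hvl i] at hi
    exact isUnit_of_mul_isUnit_right hi
  have h2 : IsUnit (γ i) := isUnit_of_map_unit (f.stalkMap z).hom _ h1
  obtain ⟨w, hw⟩ := h2.exists_left_inv
  have hwu : IsUnit w := isUnit_of_mul_isUnit_left (by rw [hw]; exact isUnit_one)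
  refine ⟨fun l => w * γ l, isCoord_smul hγ hwu fun _ => rfl, hw, fun l => ?_⟩
  rw [hvl l, hvl i, map_mul, mul_assoc, ← mul_assoc (pAlg k f hf z (γ i)), ← map_mul, mul_comm (γ i), hw, map_one,
    one_mul]

end Coord

section Frac

variable {k} {N : ℕ}

theorem awayLift_eq {B : Type u} [CommRing B] [Algebra k B] (c : Fin (N + 1) → B) (i : Fin (N + 1)) (hi : IsUnit (c i))
    (h1 : c i = 1) (u : Chart N k i) : ∃ a : MvPolynomial (Fin (N + 1)) k,
      awayLift (polyGrading N k) (ev k c) (MvPolynomial.X i) (isUnit_ev k hi) u = MvPolynomial.aeval c a := by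
  obtain ⟨n, a, ha, rfl⟩ := HomogeneousLocalization.Away.mk_surjective (polyGrading N k) (X_mem N k i) u
  refine ⟨a, ?_⟩
  have h3 := awayLift_mk (polyGrading N k) (ev k c) (isUnit_ev k hi) (X_mem N k i) n a ha
  rw [ev_X, h1, one_pow, mul_one] at h3
  rw [h3]
  rfl

/-- A closed subscheme of projective space: the elements of a local ring are fractions in the coordinates. -/
theorem exists_frac {X : Scheme.{u}} [X.Over (Spec (CommRingCat.of k))] (ι : X ⟶ ProjSpace N k)
    [IsClosedImmersion ι] {x : X} {c : Fin (N + 1) → X.presheaf.stalk x} {i : Fin (N + 1)} (hc : IsCoord k ι x c)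
    (h1 : c i = 1) (p : X.presheaf.stalk x) : ∃ a b : MvPolynomial (Fin (N + 1)) k,
      IsUnit (MvPolynomial.aeval c b) ∧ p * MvPolynomial.aeval c b = MvPolynomial.aeval c a := by
  obtain ⟨j, hj, e⟩ := hc
  have hi : IsUnit (c i) := by rw [h1]; exact isUnit_one
  rw [pt_indep k c j i hj hi] at e
  let χ : Chart N k i →+* X.presheaf.stalk x :=
    awayLift (polyGrading N k) (ev k c) (MvPolynomial.X i) (isUnit_ev k hi)
  have e1 : X.fromSpecStalk x ≫ ι = Spec.map (CommRingCat.ofHom χ) ≫ chart N k i := e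
  have hV : IsAffineOpen (chart N k i).opensRange := isAffineOpen_opensRange _
  have hx : ι x ∈ (chart N k i).opensRange := by
    have h2 := congrArg (fun m : Spec (X.presheaf.stalk x) ⟶ ProjSpace N k =>
      m (IsLocalRing.closedPoint (X.presheaf.stalk x))) e1
    dsimp only at h2
    rw [Scheme.Hom.comp_apply, Scheme.Hom.comp_apply, Scheme.fromSpecStalk_closedPoint] at h2
    exact ⟨_, h2.symm⟩
  have hr : Set.range hV.fromSpec = Set.range (chart N k i) := by
    rw [hV.range_fromSpec]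
    rfl
  let θ := IsOpenImmersion.isoOfRangeEq hV.fromSpec (chart N k i) hr
  have e2 : (ProjSpace N k).fromSpecStalk (ι x) =
      Spec.map ((ProjSpace N k).presheaf.germ _ (ι x) hx) ≫ Spec.map (Spec.preimage θ.hom) ≫ chart N k i := by
    rw [← hV.fromSpecStalk_eq_fromSpecStalk hx, IsAffineOpen.fromSpecStalk, Spec.map_preimage,
      IsOpenImmersion.isoOfRangeEq_hom_fac]
  have e3 : Spec.map (CommRingCat.ofHom χ) = Spec.map (Spec.preimage θ.hom ≫
      (ProjSpace N k).presheaf.germ _ (ι x) hx ≫ ι.stalkMap x) := by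
    rw [← cancel_mono (chart N k i), ← e1, ← Scheme.SpecMap_stalkMap_fromSpecStalk, e2]
    simp only [Spec.map_comp, Category.assoc]
  have e4 : ∀ u, χ u = ι.stalkMap x ((ProjSpace N k).presheaf.germ _ (ι x) hx ((Spec.preimage θ.hom) u)) := by
    intro u
    exact congrArg (fun m => m.hom u) (Spec.map_injective e3)
  have hinv : Spec.preimage θ.inv ≫ Spec.preimage θ.hom = 𝟙 _ := Spec.map_injective (by
    rw [Spec.map_comp, Spec.map_preimage, Spec.map_preimage, Iso.hom_inv_id, Spec.map_id])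
  have hsurj : ∀ v, ∃ u, (Spec.preimage θ.hom) u = v := fun v =>
    ⟨(Spec.preimage θ.inv) v, congrArg (fun m => m.hom v) hinv⟩
  obtain ⟨y, rfl⟩ := ι.stalkMap_surjective x p
  let : Algebra Γ(ProjSpace N k, (chart N k i).opensRange) ((ProjSpace N k).presheaf.stalk (ι x)) :=
    TopCat.Presheaf.algebra_section_stalk (ProjSpace N k).presheaf (⟨ι x, hx⟩ : (chart N k i).opensRange)
  have hloc : IsLocalization.AtPrime ((ProjSpace N k).presheaf.stalk (ι x)) (hV.primeIdealOf ⟨ι x, hx⟩).asIdeal :=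
    hV.isLocalization_stalk ⟨ι x, hx⟩
  obtain ⟨⟨s, t⟩, hst⟩ := IsLocalization.surj (hV.primeIdealOf ⟨ι x, hx⟩).asIdeal.primeCompl y
  have ht := IsLocalization.map_units ((ProjSpace N k).presheaf.stalk (ι x)) t
  obtain ⟨s', hs'⟩ := hsurj s
  obtain ⟨t', ht'⟩ := hsurj t
  obtain ⟨a, ha⟩ := awayLift_eq c i hi h1 s'
  obtain ⟨b, hb⟩ := awayLift_eq c i hi h1 t'
  have hs2 : MvPolynomial.aeval c a = ι.stalkMap x ((ProjSpace N k).presheaf.germ _ (ι x) hx s) := by
    rw [← ha, ← hs']
    exact e4 s'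
  have ht2 : MvPolynomial.aeval c b = ι.stalkMap x ((ProjSpace N k).presheaf.germ _ (ι x) hx t) := by
    rw [← hb, ← ht']
    exact e4 t'
  refine ⟨a, b, ?_, ?_⟩
  · rw [ht2]
    exact ht.map (ι.stalkMap x).hom
  · rw [ht2, hs2]
    exact (map_mul (ι.stalkMap x).hom _ _).symm.trans (congrArg (ι.stalkMap x).hom hst)

end Frac

end K40.TanCoord
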