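import Groth.Agent.Curves.K40.TanCoord
import Groth.Agent.Curves.K756.LatSh
import Groth.Agent.CurvesB.OmegaStalkDict
import Groth.Agent.CycB.C1Pull
import Groth.Agent.Dual3.K477.NormalGeo
import Groth.Agent.Dual.H328.ClopenGlue
import Groth.Agent.Dual.H339.OmegaRank
import Groth.Agent.Krr.H482.PullLambda

/-!
# The tangent lattice of a morphism is the dual of the pullback of the differentials
-/

set_option autoImplicit false
universe u
open CategoryTheory CategoryTheory.Limits AlgebraicGeometry TopologicalSpace Opposite TensorProduct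
open K756.FamDef K756.LatSh

noncomputable section

namespace K40.TanDual

attribute [local instance] Curv2.stalkAlgebra

open K40.TanAlg K40.TanCoord K756.LocLift
open Groth.Agent.CurvesB.OmegaStalkDict (dSt dSt_mul dSt_stHom dSt_specializes stDer bijective_stDer stAlg stMod stTower stHom)
open Groth.Agent.Fdesc.PullbackStalk (canAdd canAdd_smul)

/-- The linear forms on the generic stalk of `M` that are integral at `x`. -/
def IsIntAt {C : Scheme.{u}} [IsIntegral C] (M : C.Modules) (x : C)
    (ξ : Module.Dual C.functionField (M.presheaf.stalk (genericPoint C))) : Prop :=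
  ∀ m : M.presheaf.stalk x, ξ (M.presheaf.stalkSpecializes (genericPoint_specializes x) m) ∈
    (algebraMap (C.presheaf.stalk x) C.functionField).range

/-- the lattice of tangent vectors at `z`: vectors `v - v_{i₀} s` for `v` in `c • O_z^(N+1)`, where `s = c b`, `b`
coordinates at `z`, and `∑ ∂_l G(s) v_l = 0` for all equations `G` of `X` -/
def IsTan (k : Type u) [Field k] {X : Scheme.{u}} [X.Over (Spec (CommRingCat.of k))] {N : ℕ}
    (ι : X ⟶ CohB1.ProjSpace N k) {C : Scheme.{u}} [C.Over (Spec (CommRingCat.of k))] [IsIntegral C] (f : C ⟶ X)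
    (s : Fin (N + 1) → C.functionField) (i₀ : Fin (N + 1)) (z : C) (t : Fin (N + 1) → C.functionField) : Prop :=
  ∃ v : Fin (N + 1) → C.functionField,
    (∃ (c : C.functionField) (b u : Fin (N + 1) → C.presheaf.stalk z), IsCoord k (f ≫ ι) z b ∧
      (∀ l, s l = c * algebraMap (C.presheaf.stalk z) C.functionField (b l)) ∧
      ∀ l, v l = c * algebraMap (C.presheaf.stalk z) C.functionField (u l)) ∧
    (∀ G ∈ Van k ι, ∑ l, MvPolynomial.aeval s (MvPolynomial.pderiv l G) * v l = 0) ∧
    ∀ l, t l = v l - v i₀ * s l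

section Dl

variable {k : Type u} [Field k] {X C : Scheme.{u}} [X.Over (Spec (CommRingCat.of k))]
  [C.Over (Spec (CommRingCat.of k))] [IsIntegral C]
  (f : C ⟶ X) (hf : f ≫ (X ↘ Spec (CommRingCat.of k)) = C ↘ Spec (CommRingCat.of k))
  [QuasiCompact (pullback.diagonal (X ↘ Spec (CommRingCat.of k)))]

variable (k X C) in
/-- The pullback of the differentials. -/
abbrev PO : C.Modules := (Scheme.Modules.pullback f).obj (Omega.sheaf (X ↘ Spec (CommRingCat.of k)))

/-- The derivation of the local ring at `f(η)` given by a linear form on the generic stalk of the pulled back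
differentials. -/
def dl (ξ : Module.Dual C.functionField ((PO k X C f).presheaf.stalk (genericPoint C)))
    (p : X.presheaf.stalk (f (genericPoint C))) : C.functionField :=
  ξ (canAdd f (Omega.sheaf (X ↘ Spec (CommRingCat.of k))) (genericPoint C)
    (dSt (X ↘ Spec (CommRingCat.of k)) (f (genericPoint C)) p))

theorem isDer_dl (ξ : Module.Dual C.functionField ((PO k X C f).presheaf.stalk (genericPoint C))) :
    IsDer (K := C.functionField) (pAlg k f hf (genericPoint C)) (dl f ξ) where
  add p q := by rw [dl, map_add, map_add, map_add]; rfl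
  mul p q := by
    rw [dl, dSt_mul, map_add, map_add, canAdd_smul, canAdd_smul, map_smul, map_smul]
    rfl
  const r := by
    rw [dl]
    have h1 := dSt_stHom (X ↘ Spec (CommRingCat.of k)) (f (genericPoint C)) r
    have h2 : dSt (X ↘ Spec (CommRingCat.of k)) (f (genericPoint C))
      (algebraMap k (X.presheaf.stalk (f (genericPoint C))) r) = 0 := h1
    rw [h2, map_zero, map_zero]

omit [IsIntegral C] in
/-- The point `f(η)` specializes to `f(z)`. -/
theorem spz [IsIntegral C] (f : C ⟶ X) (z : C) : f (genericPoint C) ⤳ f z :=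
  (genericPoint_specializes z).map f.continuous

theorem dl_spc (ξ : Module.Dual C.functionField ((PO k X C f).presheaf.stalk (genericPoint C))) (z : C)
    (p : X.presheaf.stalk (f z)) :
    dl f ξ (spcAlg k X (spz f z) p) = ξ ((PO k X C f).presheaf.stalkSpecializes (genericPoint_specializes z)
      (canAdd f (Omega.sheaf (X ↘ Spec (CommRingCat.of k))) z (dSt (X ↘ Spec (CommRingCat.of k)) (f z) p))) := by
  rw [dl]
  congr 1
  have h1 := Groth.Agent.CycB.C1Pull.canAdd_stalkSpecializes f (Omega.sheaf (X ↘ Spec (CommRingCat.of k)))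
    (genericPoint_specializes z) (dSt (X ↘ Spec (CommRingCat.of k)) (f z) p)
  rw [← h1]
  congr 1
  exact (dSt_specializes (X ↘ Spec (CommRingCat.of k)) (spz f z) p).symm

variable (k) in
theorem span_range_dSt (x : X) :
    Submodule.span (X.presheaf.stalk x) (Set.range (dSt (X ↘ Spec (CommRingCat.of k)) x)) = ⊤ := by
  let := stAlg (X ↘ Spec (CommRingCat.of k)) x
  let := stMod (X ↘ Spec (CommRingCat.of k)) (Omega.sheaf (X ↘ Spec (CommRingCat.of k))) x
  have := stTower (X ↘ Spec (CommRingCat.of k)) (Omega.sheaf (X ↘ Spec (CommRingCat.of k))) x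
  have h1 := (bijective_stDer (X ↘ Spec (CommRingCat.of k)) x).2
  rw [← LinearMap.range_eq_top, LinearMap.range_eq_map, ← KaehlerDifferential.span_range_derivation,
    Submodule.map_span, ← Set.range_comp] at h1
  rw [← h1]
  congr 2
  funext p
  exact ((stDer (X ↘ Spec (CommRingCat.of k)) x).liftKaehlerDifferential_comp_D p).symm

theorem isIntAt_iff (ξ : Module.Dual C.functionField ((PO k X C f).presheaf.stalk (genericPoint C))) (z : C) :
    IsIntAt (PO k X C f) z ξ ↔ ∀ p : X.presheaf.stalk (f z),
      dl f ξ (spcAlg k X (spz f z) p) ∈ (algebraMap (C.presheaf.stalk z) C.functionField).range := by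
  constructor
  · intro h p
    rw [dl_spc]
    exact h _
  · intro h m
    have hm : m ∈ Submodule.span (C.presheaf.stalk z)
        (Set.range (canAdd f (Omega.sheaf (X ↘ Spec (CommRingCat.of k))) z)) := by
      rw [Groth.Agent.Fdesc.PullbackStalk.span_range_canAdd]
      exact Submodule.mem_top
    induction hm using Submodule.span_induction with
    | mem m hm =>
      obtain ⟨t, rfl⟩ := hm
      have ht : t ∈ Submodule.span (X.presheaf.stalk (f z))
          (Set.range (dSt (X ↘ Spec (CommRingCat.of k)) (f z))) := by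
        rw [span_range_dSt k (f z)]
        exact Submodule.mem_top
      induction ht using Submodule.span_induction with
      | mem t ht =>
        obtain ⟨p, rfl⟩ := ht
        rw [← dl_spc]
        exact h p
      | zero =>
        rw [map_zero, map_zero, map_zero]
        exact Subring.zero_mem _
      | add t t' _ _ ht ht' =>
        rw [map_add, map_add, map_add]
        exact Subring.add_mem _ ht ht'
      | smul r t _ ht =>
        rw [canAdd_smul, Groth.Agent.CycB.ModStalk.stalkSpecializes_smul]
        erw [map_smul]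
        exact Subring.mul_mem _ ⟨_, rfl⟩ ht
    | zero =>
      rw [map_zero, map_zero]
      exact Subring.zero_mem _
    | add t t' _ _ ht ht' =>
      rw [map_add, map_add]
      exact Subring.add_mem _ ht ht'
    | smul r t _ ht =>
      rw [Groth.Agent.CycB.ModStalk.stalkSpecializes_smul]
      erw [map_smul]
      exact Subring.mul_mem _ ⟨_, rfl⟩ ht

theorem dl_injective {ξ ξ' : Module.Dual C.functionField ((PO k X C f).presheaf.stalk (genericPoint C))}
    (h : dl f ξ = dl f ξ') : ξ = ξ' := by
  refine Groth.Agent.Fdesc.PullbackStalk.lift_unique f ξ ξ' fun t => ?_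
  have ht : t ∈ Submodule.span (X.presheaf.stalk (f (genericPoint C)))
      (Set.range (dSt (X ↘ Spec (CommRingCat.of k)) (f (genericPoint C)))) := by
    rw [span_range_dSt k]
    exact Submodule.mem_top
  induction ht using Submodule.span_induction with
  | mem t ht =>
    obtain ⟨p, rfl⟩ := ht
    exact congrFun h p
  | zero => rw [map_zero, map_zero, map_zero]
  | add t t' _ _ ht ht' => rw [map_add, map_add, map_add, ht, ht']
  | smul r t _ ht => rw [canAdd_smul, map_smul, map_smul, ht]

theorem exists_dl {δ : X.presheaf.stalk (f (genericPoint C)) → C.functionField}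
    (h : IsDer (K := C.functionField) (pAlg k f hf (genericPoint C)) δ) :
    ∃ ξ : Module.Dual C.functionField ((PO k X C f).presheaf.stalk (genericPoint C)), dl f ξ = δ := by
  let := stAlg (X ↘ Spec (CommRingCat.of k)) (f (genericPoint C))
  let := stMod (X ↘ Spec (CommRingCat.of k)) (Omega.sheaf (X ↘ Spec (CommRingCat.of k))) (f (genericPoint C))
  have := stTower (X ↘ Spec (CommRingCat.of k)) (Omega.sheaf (X ↘ Spec (CommRingCat.of k))) (f (genericPoint C))
  let mK : Module (X.presheaf.stalk (f (genericPoint C))) C.functionField :=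
    Module.compHom _ (f.stalkMap (genericPoint C)).hom
  have htow : IsScalarTower k (X.presheaf.stalk (f (genericPoint C))) C.functionField := ⟨fun r a m => by
    rw [Algebra.smul_def, mul_smul, Algebra.smul_def]
    exact congrArg (fun e : C.functionField => e * (a • m)) ((pAlg k f hf (genericPoint C)).commutes r)⟩
  let D : Derivation k (X.presheaf.stalk (f (genericPoint C))) C.functionField :=
    { toFun := δ
      map_add' := h.add
      map_smul' := fun r a => by
        rw [Algebra.smul_def, h.mul]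
        have h1 : δ (algebraMap k (X.presheaf.stalk (f (genericPoint C))) r) = 0 := h.const r
        rw [h1, mul_zero, add_zero, RingHom.id_apply, Algebra.smul_def]
        exact congrArg (fun e : C.functionField => e * δ a) ((pAlg k f hf (genericPoint C)).commutes r)
      map_one_eq_zero' := by
        have h1 := h.const 1
        rw [map_one] at h1
        exact h1
      leibniz' := fun a b => h.mul a b }
  let e := LinearEquiv.ofBijective _ (bijective_stDer (X ↘ Spec (CommRingCat.of k)) (f (genericPoint C)))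
  let g := D.liftKaehlerDifferential ∘ₗ e.symm.toLinearMap
  have hg : ∀ (r : X.presheaf.stalk (f (genericPoint C)))
      (t : (Omega.sheaf (X ↘ Spec (CommRingCat.of k))).presheaf.stalk (f (genericPoint C))),
      g.toAddMonoidHom (r • t) = f.stalkMap (genericPoint C) r • g.toAddMonoidHom t := fun r t => g.map_smul r t
  refine ⟨Groth.Agent.Fdesc.PullbackStalk.lift f (x := genericPoint C) (Q := C.functionField) g.toAddMonoidHom hg,
    funext fun p => ?_⟩
  rw [dl]
  erw [Groth.Agent.Fdesc.PullbackStalk.lift_canAdd]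
  change D.liftKaehlerDifferential (e.symm _) = δ p
  have h2 : e (KaehlerDifferential.D k _ p) = dSt (X ↘ Spec (CommRingCat.of k)) (f (genericPoint C)) p :=
    (stDer (X ↘ Spec (CommRingCat.of k)) (f (genericPoint C))).liftKaehlerDifferential_comp_D p
  rw [← h2, LinearEquiv.symm_apply_apply, Derivation.liftKaehlerDifferential_comp_D]
  rfl

end Dl

section Key

variable {k : Type u} [Field k] {X C : Scheme.{u}} [X.Over (Spec (CommRingCat.of k))]
  [C.Over (Spec (CommRingCat.of k))] [IsIntegral X] [IsIntegral C]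
  (f : C ⟶ X) (hf : f ≫ (X ↘ Spec (CommRingCat.of k)) = C ↘ Spec (CommRingCat.of k))
  [QuasiCompact (pullback.diagonal (X ↘ Spec (CommRingCat.of k)))]

theorem compat (z : C) (p : X.presheaf.stalk (f z)) :
    pAlg k f hf (genericPoint C) (spcAlg k X (spz f z) p) =
      algebraMap (C.presheaf.stalk z) C.functionField (pAlg k f hf z p) :=
  congrArg (fun m => m.hom p) (Scheme.Hom.stalkSpecializes_stalkMap f (genericPoint C) z (genericPoint_specializes z))

variable {N : ℕ} (ι : X ⟶ CohB1.ProjSpace N k) [IsClosedImmersion ι]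
    (hι : ι ≫ CohB1.ProjSpace.toSpec N k = X ↘ Spec (CommRingCat.of k))
    (s : Fin (N + 1) → C.functionField) (i₀ : Fin (N + 1))
    (a : Fin (N + 1) → X.presheaf.stalk (f (genericPoint C))) (ha : IsCoord k ι (f (genericPoint C)) a)
    (ha0 : a i₀ = 1) (has : ∀ l, pAlg k f hf (genericPoint C) (a l) = s l)

include hι ha ha0 has in
theorem isTan_of (z : C) (ξ : Module.Dual C.functionField ((PO k X C f).presheaf.stalk (genericPoint C)))
    (hξ : IsIntAt (PO k X C f) z ξ) : IsTan k ι f s i₀ z (fun l => dl f ξ (a l)) := by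
  obtain ⟨c, i, hc, hci⟩ := exists_isCoord_one ι hι (f z)
  have hδ := isDer_dl f hf ξ
  have hb : IsCoord k (f ≫ ι) z fun l => pAlg k f hf z (c l) := isCoord_pull f hf hc
  have hβ : IsCoord k ι (f (genericPoint C)) fun l => spcAlg k X (spz f z) (c l) := isCoord_spc (spz f z) hc
  obtain ⟨v, hv, hvl⟩ := exists_unit ha hβ
  have hv0 : spcAlg k X (spz f z) (c i₀) = v := by rw [hvl, ha0, mul_one]
  have hχv : pAlg k f hf (genericPoint C) v ≠ (0 : C.functionField) :=
    (hv.map (pAlg k f hf (genericPoint C))).ne_zero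
  obtain ⟨e, he⟩ : ∃ e : C.functionField, e * pAlg k f hf (genericPoint C) v = 1 :=
    ⟨(pAlg k f hf (genericPoint C) v)⁻¹, inv_mul_cancel₀ hχv⟩
  choose u hu using fun l => (isIntAt_iff f ξ z).1 hξ (c l)
  have hs : ∀ l, s l = e * algebraMap (C.presheaf.stalk z) C.functionField (pAlg k f hf z (c l)) := by
    intro l
    rw [← compat f hf, hvl, map_mul, has, ← mul_assoc, he, one_mul]
  refine ⟨fun l => e * algebraMap (C.presheaf.stalk z) C.functionField (u l),
    ⟨e, fun l => pAlg k f hf z (c l), u, hb, hs, fun l => rfl⟩, fun G hG => ?_, fun l => ?_⟩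
  · obtain ⟨n, hn⟩ := hG.1
    have h1 := hG.2 _ _ hβ
    have h2 := hδ.eval (fun l => spcAlg k X (spz f z) (c l)) G
    have h3 : dl f ξ (0 : X.presheaf.stalk (f (genericPoint C))) = 0 := by
      have := hδ.const 0
      rw [map_zero] at this
      exact this
    rw [h1, h3] at h2
    have h4 := dd_smul e (fun l => pAlg k f hf (genericPoint C) (spcAlg k X (spz f z) (c l)))
      (fun l => dl f ξ (spcAlg k X (spz f z) (c l))) hn
    rw [← h2, mul_zero, dd, Finset.mul_sum] at h4
    refine Eq.trans ?_ h4
    refine Finset.sum_congr rfl fun l _ => ?_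
    have h5 : s = fun l => e * pAlg k f hf (genericPoint C) (spcAlg k X (spz f z) (c l)) :=
      funext fun l => by rw [hs, compat]
    rw [h5]
    beta_reduce
    rw [hu]
    ring
  · have h1 := hδ.ratio (fun l => spcAlg k X (spz f z) (c l)) a i₀ e
      (fun l => by rw [hv0]; exact hvl l) (by rw [hv0]; exact he) l
    beta_reduce
    rw [h1, has, hu, hu]
    ring

include hι ha ha0 has in
theorem of_isTan (z : C) (t : Fin (N + 1) → C.functionField) (ht : IsTan k ι f s i₀ z t) :
    ∃ ξ, IsIntAt (PO k X C f) z ξ ∧ (fun l => dl f ξ (a l)) = t := by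
  obtain ⟨v, ⟨e, b, u, hb, hs, hv⟩, hG, htl⟩ := ht
  obtain ⟨i, hi, -⟩ := id hb
  obtain ⟨c, hc, hci, hbc⟩ := exists_pull f hf ι hι z b hb i hi
  have hβ : IsCoord k ι (f (genericPoint C)) fun l => spcAlg k X (spz f z) (c l) := isCoord_spc (spz f z) hc
  have hβ1 : spcAlg k X (spz f z) (c i) = 1 := by rw [hci, map_one]
  obtain ⟨r, hr, hrl⟩ := exists_unit ha hβ
  have hr0 : spcAlg k X (spz f z) (c i₀) = r := by rw [hrl, ha0, mul_one]
  have hs₀ : s i₀ = 1 := by rw [← has, ha0, map_one]
  -- the unit `b i`
  obtain ⟨w, hw⟩ := hi.exists_left_inv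
  let α := algebraMap (C.presheaf.stalk z) C.functionField
  let χ : X.presheaf.stalk (f (genericPoint C)) →ₐ[k] C.functionField := pAlg k f hf (genericPoint C)
  have hχβ : ∀ l, χ (spcAlg k X (spz f z) (c l)) = α (pAlg k f hf z (c l)) := fun l => compat f hf z (c l)
  have hbα : ∀ l, α (b l) = α (b i) * χ (spcAlg k X (spz f z) (c l)) := fun l => by
    rw [hχβ, ← map_mul, ← hbc]
  have hB : α (b i) ≠ 0 := (hi.map α).ne_zero
  have he : e ≠ 0 := by
    rintro rfl
    have := hs i₀
    rw [hs₀, zero_mul] at this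
    exact one_ne_zero this
  have hsβ : ∀ l, s l = (e * α (b i)) * χ (spcAlg k X (spz f z) (c l)) := fun l => by
    rw [mul_assoc, ← hbα]
    exact hs l
  have heB : e * α (b i) ≠ 0 := mul_ne_zero he hB
  let wt : Fin (N + 1) → C.presheaf.stalk z := fun l => (u l * b i - b l * u i) * w * w
  have hwt : ∀ l, α (b i) * α (wt l) = α (u l) - χ (spcAlg k X (spz f z) (c l)) * α (u i) := fun l => by
    have h1 : b i * wt l = (u l - pAlg k f hf z (c l) * u i) := by
      change b i * ((u l * b i - b l * u i) * w * w) = _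
      rw [hbc l]
      linear_combination (u l - pAlg k f hf z (c l) * u i) * (w * b i + 1) * hw
    rw [← map_mul, h1, map_sub, map_mul, hχβ]
  obtain ⟨δ, hδ, hδc⟩ := exists_isDer (fun l => spcAlg k X (spz f z) (c l)) (exists_frac ι hβ hβ1) χ
    (fun l => α (wt l)) (dd_eq_zero χ (fun l => spcAlg k X (spz f z) (c l)) (fun l => α (u l))
      (fun l => α (wt l)) (α (b i)) hB hβ1 hwt (fun n G hn h0 => by
        have h1 := hG G (mem_van hβ hn h0)
        have h2 := dd_smul (e * α (b i)) (fun l => χ (spcAlg k X (spz f z) (c l))) (fun l => α (u l)) hn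
        have h3 : dd (fun l => (e * α (b i)) * χ (spcAlg k X (spz f z) (c l))) (fun l => α (u l)) G = 0 := by
          have h4 : e * dd (fun l => (e * α (b i)) * χ (spcAlg k X (spz f z) (c l))) (fun l => α (u l)) G = 0 := by
            refine Eq.trans ?_ h1
            rw [dd, Finset.mul_sum]
            refine Finset.sum_congr rfl fun l _ => ?_
            have h5 : s = fun l => (e * α (b i)) * χ (spcAlg k X (spz f z) (c l)) := funext hsβ
            rw [h5, hv]
            ring
          exact (mul_eq_zero.1 h4).resolve_left he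
        rw [h3, mul_zero] at h2
        exact (mul_eq_zero.1 h2.symm).resolve_left (pow_ne_zero n heB)))
  obtain ⟨ξ, rfl⟩ := exists_dl f hf hδ
  refine ⟨ξ, (isIntAt_iff f ξ z).2 fun p => ?_, funext fun l => ?_⟩
  · obtain ⟨A, B, hB', hp⟩ := exists_frac ι hc hci p
    have hev : ∀ g : MvPolynomial (Fin (N + 1)) k, MvPolynomial.aeval (fun l => spcAlg k X (spz f z) (c l)) g =
        spcAlg k X (spz f z) (MvPolynomial.aeval c g) := fun g => by
      rw [← AlgHom.comp_apply, MvPolynomial.comp_aeval]
    have hχev : ∀ g : MvPolynomial (Fin (N + 1)) k,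
        MvPolynomial.aeval (fun l => χ (spcAlg k X (spz f z) (c l))) g =
          χ (spcAlg k X (spz f z) (MvPolynomial.aeval c g)) := fun g => by
      rw [← hev, ← AlgHom.comp_apply, MvPolynomial.comp_aeval]
    have h1 := hδ.frac (c := fun l => spcAlg k X (spz f z) (c l)) (p := spcAlg k X (spz f z) p) (a := A) (b := B)
      (by rw [hev, hev, ← map_mul, hp])
    have hdd : ∀ g : MvPolynomial (Fin (N + 1)) k, dd (fun l => χ (spcAlg k X (spz f z) (c l)))
        (fun l => dl f ξ (spcAlg k X (spz f z) (c l))) g ∈ α.range := fun g => by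
      rw [dd]
      refine Subring.sum_mem _ fun l _ => Subring.mul_mem _ ?_ ⟨wt l, (hδc l).symm⟩
      refine ⟨pAlg k f hf z (MvPolynomial.aeval c (MvPolynomial.pderiv l g)), ?_⟩
      rw [hχev]
      exact (compat f hf z _).symm
    have h2 : χ (MvPolynomial.aeval (fun l => spcAlg k X (spz f z) (c l)) B) =
        α (pAlg k f hf z (MvPolynomial.aeval c B)) := by
      rw [hev]
      exact compat f hf z _
    obtain ⟨y, hy⟩ := (hB'.map (pAlg k f hf z)).exists_left_inv
    have h3 : dl f ξ (spcAlg k X (spz f z) p) = α y * (dd (fun l => χ (spcAlg k X (spz f z) (c l)))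
        (fun l => dl f ξ (spcAlg k X (spz f z) (c l))) A - χ (spcAlg k X (spz f z) p) *
          dd (fun l => χ (spcAlg k X (spz f z) (c l))) (fun l => dl f ξ (spcAlg k X (spz f z) (c l))) B) := by
      rw [← h1, h2, ← mul_assoc, ← map_mul, hy, map_one, one_mul]
    rw [h3]
    exact Subring.mul_mem _ ⟨y, rfl⟩ (Subring.sub_mem _ (hdd A) (Subring.mul_mem _
      ⟨pAlg k f hf z p, (compat f hf z p).symm⟩ (hdd B)))
  · have h1 := hδ.ratio (fun l => spcAlg k X (spz f z) (c l)) a i₀ (e * α (b i))
      (fun l => by rw [hr0]; exact hrl l) (by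
        have := hsβ i₀
        rw [hs₀] at this
        exact this.symm) l
    rw [h1, hδc, hδc, htl, hv, hv]
    have h2 := hwt l
    have h3 := hwt i₀
    have h4 := hsβ l
    have h5 := hsβ i₀
    have h6 : χ (a l) = s l := has l
    rw [h6]
    have h7 : χ (spcAlg k X (spz f z) (c l)) - χ (spcAlg k X (spz f z) (c i₀)) * s l = 0 := by
      rw [hs₀] at h5
      linear_combination (-χ (spcAlg k X (spz f z) (c i₀))) * h4 + χ (spcAlg k X (spz f z) (c l)) * h5
    linear_combination e * h2 - e * s l * h3 - e * α (u i) * h7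

end Key

section Free

variable {k : Type u} [Field k] {X C : Scheme.{u}} [X.Over (Spec (CommRingCat.of k))]

/-- The differentials are free of rank the dimension along the image of a morphism into the smooth locus. -/
theorem isFinLocFreeOfRank_pullback [IsAlgClosed k] [IsIntegral X] (p : X ⟶ Spec (CommRingCat.of k))
    [LocallyOfFiniteType p] [IsSeparated p]
    (n : ℕ) (hn : topologicalKrullDim X = n) (f : C ⟶ X)
    (U : X.Opens) (hU : Set.range f ⊆ (U : Set X)) (hUs : Smooth (U.ι ≫ p)) :
    FlatMod.IsFinLocFreeOfRank n ((Scheme.Modules.pullback f).obj (Omega.sheaf p)) := by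
  have h1 : SmoothOfRelativeDimension n (p.smoothLocus.ι ≫ p) :=
    Groth.Agent.K477.NormalGeo.smoothOfRelativeDimension p n hn
  have h2 : U ≤ p.smoothLocus := by
    intro x hx
    rw [← Scheme.Hom.smoothLocus_eq_top_iff, ← Scheme.Hom.preimage_smoothLocus_eq] at hUs
    have h3 : (⟨x, hx⟩ : U) ∈ U.ι ⁻¹ᵁ p.smoothLocus := by rw [hUs]; trivial
    exact h3
  have h4 : Set.range f ⊆ Set.range p.smoothLocus.ι := by
    rw [Scheme.Opens.range_ι]
    exact hU.trans h2
  let g := IsOpenImmersion.lift p.smoothLocus.ι f h4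
  have hg : g ≫ p.smoothLocus.ι = f := IsOpenImmersion.lift_fac _ _ _
  obtain ⟨e⟩ := Groth.Agent.Dual.H328.ClopenGlue.nonempty_omega_restrict p p.smoothLocus
  have h5 : FlatMod.IsFinLocFreeOfRank n (Omega.sheaf (p.smoothLocus.ι ≫ p)) :=
    Groth.Agent.Dual.H339.OmegaRank.isFinLocFreeOfRank_omega n (p.smoothLocus.ι ≫ p)
  have h6 := Groth.Agent.Krr.H482.PullLambda.isFinLocFreeOfRank_pullback g h5
  rw [← hg]
  let e' : (Scheme.Modules.pullback (g ≫ p.smoothLocus.ι)).obj (Omega.sheaf p) ≅
      (Scheme.Modules.pullback g).obj (Omega.sheaf (p.smoothLocus.ι ≫ p)) :=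
    (Scheme.Modules.pullbackComp g p.smoothLocus.ι).symm.app _ ≪≫
      (Scheme.Modules.pullback g).mapIso (((Scheme.Modules.restrictFunctorIsoPullback p.smoothLocus.ι).app _).symm ≪≫ e)
  intro x
  obtain ⟨V, hV, ⟨e''⟩⟩ := h6 x
  exact ⟨V, hV, ⟨(Scheme.Modules.restrictFunctor V.ι).mapIso e' ≪≫ e''⟩⟩

end Free

theorem exists_dual_tangent (k : Type u) [Field k] [IsAlgClosed k]
    (X : Scheme.{u}) [X.Over (Spec (CommRingCat.of k))] [IsIntegral X]
    (N : ℕ) (ι : X ⟶ CohB1.ProjSpace N k) [IsClosedImmersion ι]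
    (hι : ι ≫ CohB1.ProjSpace.toSpec N k = X ↘ Spec (CommRingCat.of k))
    (n : ℕ) (hn : topologicalKrullDim X = n)
    (C : Scheme.{u}) [C.Over (Spec (CommRingCat.of k))] [IsIntegral C]
    (hC : Curve.IsSmoothProperCurve k C (C ↘ Spec (CommRingCat.of k)))
    (f : C ⟶ X) (hf : f ≫ (X ↘ Spec (CommRingCat.of k)) = C ↘ Spec (CommRingCat.of k))
    (U : X.Opens) (hU : Set.range f.base ⊆ (U : Set X))
    (hUs : Smooth (U.ι ≫ (X ↘ Spec (CommRingCat.of k))))
    (s : Fin (N + 1) → C.functionField) (i₀ : Fin (N + 1)) (hs : IsCoord k (f ≫ ι) (genericPoint C) s)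
    (hs₀ : s i₀ = 1) :
    FlatMod.IsFinLocFreeOfRank n ((Scheme.Modules.pullback f).obj (Omega.sheaf (X ↘ Spec (CommRingCat.of k)))) ∧
    ∃ Φ : Module.Dual C.functionField
        (((Scheme.Modules.pullback f).obj (Omega.sheaf (X ↘ Spec (CommRingCat.of k)))).presheaf.stalk
          (genericPoint C)) →ₗ[C.functionField] (Fin (N + 1) → C.functionField),
      Function.Injective Φ ∧ ∀ (z : C) (t : Fin (N + 1) → C.functionField),
        IsTan k ι f s i₀ z t ↔ ∃ ξ, IsIntAt _ z ξ ∧ Φ ξ = t := by
  have hp : IsProper (CohB1.ProjSpace.toSpec N k) := Groth.Agent.VarietyB.ProjSpaceProper.isProper_toSpec N k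
  have hX : IsProper (X ↘ Spec (CommRingCat.of k)) := by
    rw [← hι]
    infer_instance
  refine ⟨isFinLocFreeOfRank_pullback (X ↘ Spec (CommRingCat.of k)) n hn f U hU hUs, ?_⟩
  obtain ⟨a, ha, ha0, hsa⟩ := exists_pull f hf ι hι (genericPoint C) s hs i₀ (by rw [hs₀]; exact isUnit_one)
  have has : ∀ l, pAlg k f hf (genericPoint C) (a l) = s l := fun l => by
    rw [hsa l, hs₀, one_mul]
  let Φ : Module.Dual C.functionField ((PO k X C f).presheaf.stalk (genericPoint C)) →ₗ[C.functionField]
      (Fin (N + 1) → C.functionField) :=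
    { toFun := fun ξ l => dl f ξ (a l)
      map_add' := fun ξ ξ' => rfl
      map_smul' := fun r ξ => rfl }
  refine ⟨Φ, fun ξ ξ' h => ?_, fun z t => ⟨fun ht => ?_, ?_⟩⟩
  · exact dl_injective f (IsDer.ext a (exists_frac ι ha ha0) (isDer_dl f hf ξ) (isDer_dl f hf ξ')
      fun l => congrFun h l)
  · exact of_isTan f hf ι hι s i₀ a ha ha0 has z t ht
  · rintro ⟨ξ, hξ, rfl⟩
    exact isTan_of f hf ι hι s i₀ a ha ha0 has z ξ hξ

end K40.TanDual
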